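/-
A quadratic element outside the `p`-core commutes with an involution (`p` odd).

If `x = ρ a - 1` and `y = ρ b - 1` square to zero, every element of the monoid generated by `ρ a`, `ρ b` has the form
`u₀ + u₁ x + u₂ y + u₃ xy` with `uᵢ` commuting with `x`, `y`, and its inverse is the conjugate
`u₀ - u₁ x - u₂ y + u₃ yx`.  So `ρ g + ρ g⁻¹` commutes with `x`; hence every involution of `⟨a, b⟩` does.
-/
import Cfsg.Agent.PLocal.PStability
import Cfsg.Agent.Small.BaerSuzuki
import Cfsg.Agent.LocalStructure.Cores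
set_option autoImplicit false

namespace CfsgLib.BenderOutside

open Cfsg Subgroup
open scoped MatrixGroups

section Ring

variable {R : Type*} [Ring R] {X : Type*} [Group X]

/-- `ρ g + ρ g⁻¹` commutes with the quadratic generators. -/
theorem commute_add_inv (ρ : X →* R) {a b : X} (ha : (ρ a - 1) * (ρ a - 1) = 0)
    (hb : (ρ b - 1) * (ρ b - 1) = 0) {g : X} (hg : g ∈ Subgroup.closure ({a, b} : Set X)) :
    Commute (ρ g + ρ g⁻¹) (ρ a) := by
  set x := ρ a - 1 with hx
  set y := ρ b - 1 with hy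
  set z := x * y + y * x with hz
  have zx : Commute z x := (PLocal.QuadraticPair.z_comm_left ha).symm
  have zy : Commute z y := (PLocal.QuadraticPair.z_comm_right hb).symm
  let C : R → Prop := fun u => Commute u x ∧ Commute u y
  have Cz : C z := ⟨zx, zy⟩
  let Sh : X → Prop := fun g => ∃ u₀ u₁ u₂ u₃ : R, C u₀ ∧ C u₁ ∧ C u₂ ∧ C u₃ ∧
    ρ g = u₀ + u₁ * x + u₂ * y + u₃ * (x * y) ∧
    ρ g⁻¹ = u₀ - u₁ * x - u₂ * y + u₃ * (y * x)
  have inv : ∀ c : X, (ρ c - 1) * (ρ c - 1) = 0 → ρ c⁻¹ = 1 - (ρ c - 1) := by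
    intro c hc
    have e : (1 - (ρ c - 1)) * ρ c = 1 := by
      have : (1 - (ρ c - 1)) * ρ c = 1 - (ρ c - 1) * (ρ c - 1) := by noncomm_ring
      rw [this, hc, sub_zero]
    calc ρ c⁻¹ = (1 - (ρ c - 1)) * ρ c * ρ c⁻¹ := by rw [e, one_mul]
      _ = _ := by rw [mul_assoc, ← map_mul, mul_inv_cancel, map_one, mul_one]
  have xyx : x * y * x = z * x := by
    rw [hz, add_mul, mul_assoc y x x, ha, mul_zero, add_zero]
  have yx : y * x = z - x * y := by rw [hz]; abel
  have inva : ρ a⁻¹ = 1 - x := inv a ha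
  have invb : ρ b⁻¹ = 1 - y := inv b hb
  clear_value x y z
  have stepA : ∀ g, Sh g → ∀ (ε : R), (ε = 1 ∨ ε = -1) → ∀ c : X, ρ c = 1 + ε * x →
      ρ c⁻¹ = 1 - ε * x → Sh (g * c) := by
    rintro g ⟨u₀, u₁, u₂, u₃, c₀, c₁, c₂, c₃, e, e'⟩ ε hε c hc hc'
    have Cε : C ε := by
      rcases hε with rfl | rfl
      · exact ⟨Commute.one_left _, Commute.one_left _⟩
      · exact ⟨(Commute.one_left _).neg_left, (Commute.one_left _).neg_left⟩
    have Cεc : ∀ u : R, Commute u ε := by
      rcases hε with rfl | rfl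
      · exact fun u => Commute.one_right u
      · exact fun u => (Commute.one_right u).neg_right
    refine ⟨u₀ + ε * (u₂ * z), u₁ + ε * (u₀ + u₃ * z), u₂, u₃ - ε * u₂,
      ⟨c₀.1.add_left (Cε.1.mul_left (c₂.1.mul_left zx)), c₀.2.add_left (Cε.2.mul_left (c₂.2.mul_left zy))⟩,
      ⟨c₁.1.add_left (Cε.1.mul_left (c₀.1.add_left (c₃.1.mul_left zx))),
        c₁.2.add_left (Cε.2.mul_left (c₀.2.add_left (c₃.2.mul_left zy)))⟩, c₂,
      ⟨c₃.1.sub_left (Cε.1.mul_left c₂.1), c₃.2.sub_left (Cε.2.mul_left c₂.2)⟩, ?_, ?_⟩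
    · have h1 : (u₀ + u₁ * x + u₂ * y + u₃ * (x * y)) * x =
          u₀ * x + u₂ * z - u₂ * (x * y) + u₃ * z * x := by
        calc _ = u₀ * x + u₁ * (x * x) + u₂ * (y * x) + u₃ * (x * y * x) := by
              simp only [add_mul, mul_assoc]
          _ = _ := by rw [ha, yx, xyx, mul_zero, add_zero, mul_sub, ← mul_assoc u₃ z x, add_sub_assoc]
      rw [map_mul, e, hc]
      calc (u₀ + u₁ * x + u₂ * y + u₃ * (x * y)) * (1 + ε * x)
          = (u₀ + u₁ * x + u₂ * y + u₃ * (x * y)) +
            ε * ((u₀ + u₁ * x + u₂ * y + u₃ * (x * y)) * x) := by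
            rcases hε with rfl | rfl <;> noncomm_ring
        _ = _ := by rw [h1]; noncomm_ring
    · have h1 : x * (u₀ - u₁ * x - u₂ * y + u₃ * (y * x)) =
          u₀ * x - u₂ * (x * y) + u₃ * z * x := by
        simp only [mul_add, mul_sub, ← mul_assoc, c₀.1.symm.eq, c₁.1.symm.eq, c₂.1.symm.eq, c₃.1.symm.eq]
        simp only [mul_assoc, ha, mul_zero, sub_zero]
        rw [← mul_assoc x y x, xyx]
      rw [mul_inv_rev, map_mul, e', hc']
      calc (1 - ε * x) * (u₀ - u₁ * x - u₂ * y + u₃ * (y * x))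
          = (u₀ - u₁ * x - u₂ * y + u₃ * (y * x)) -
            ε * (x * (u₀ - u₁ * x - u₂ * y + u₃ * (y * x))) := by
            rw [sub_mul, one_mul, mul_assoc]
        _ = _ := by rw [h1, yx]; noncomm_ring
  have stepB : ∀ g, Sh g → ∀ (ε : R), (ε = 1 ∨ ε = -1) → ∀ c : X, ρ c = 1 + ε * y →
      ρ c⁻¹ = 1 - ε * y → Sh (g * c) := by
    rintro g ⟨u₀, u₁, u₂, u₃, c₀, c₁, c₂, c₃, e, e'⟩ ε hε c hc hc'
    have Cε : C ε := by
      rcases hε with rfl | rfl
      · exact ⟨Commute.one_left _, Commute.one_left _⟩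
      · exact ⟨(Commute.one_left _).neg_left, (Commute.one_left _).neg_left⟩
    have Cεc : ∀ u : R, Commute u ε := by
      rcases hε with rfl | rfl
      · exact fun u => Commute.one_right u
      · exact fun u => (Commute.one_right u).neg_right
    refine ⟨u₀, u₁, u₂ + ε * u₀, u₃ + ε * u₁, c₀, c₁,
      ⟨c₂.1.add_left (Cε.1.mul_left c₀.1), c₂.2.add_left (Cε.2.mul_left c₀.2)⟩,
      ⟨c₃.1.add_left (Cε.1.mul_left c₁.1), c₃.2.add_left (Cε.2.mul_left c₁.2)⟩, ?_, ?_⟩
    · have h1 : (u₀ + u₁ * x + u₂ * y + u₃ * (x * y)) * y = u₀ * y + u₁ * (x * y) := by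
        simp only [add_mul, mul_assoc, hb, mul_zero, add_zero]
      rw [map_mul, e, hc]
      calc (u₀ + u₁ * x + u₂ * y + u₃ * (x * y)) * (1 + ε * y)
          = (u₀ + u₁ * x + u₂ * y + u₃ * (x * y)) +
            ε * ((u₀ + u₁ * x + u₂ * y + u₃ * (x * y)) * y) := by
            rcases hε with rfl | rfl <;> noncomm_ring
        _ = _ := by rw [h1]; noncomm_ring
    · have h1 : y * (u₀ - u₁ * x - u₂ * y + u₃ * (y * x)) = u₀ * y - u₁ * (y * x) := by
        simp only [mul_add, mul_sub, ← mul_assoc, c₀.2.symm.eq, c₁.2.symm.eq, c₂.2.symm.eq, c₃.2.symm.eq]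
        simp only [mul_assoc, hb, mul_zero, sub_zero]
        simp
      rw [mul_inv_rev, map_mul, e', hc']
      calc (1 - ε * y) * (u₀ - u₁ * x - u₂ * y + u₃ * (y * x))
          = (u₀ - u₁ * x - u₂ * y + u₃ * (y * x)) -
            ε * (y * (u₀ - u₁ * x - u₂ * y + u₃ * (y * x))) := by
            rw [sub_mul, one_mul, mul_assoc]
        _ = _ := by rw [h1]; noncomm_ring
  have hsh : Sh g := by
    induction hg using Subgroup.closure_induction_right with
    | one => exact ⟨1, 0, 0, 0, ⟨Commute.one_left _, Commute.one_left _⟩, ⟨Commute.zero_left _, Commute.zero_left _⟩,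
        ⟨Commute.zero_left _, Commute.zero_left _⟩, ⟨Commute.zero_left _, Commute.zero_left _⟩,
        by simp, by simp⟩
    | mul_right g _ c hc ih =>
      rcases hc with rfl | rfl
      · exact stepA g ih 1 (Or.inl rfl) c (by rw [hx]; noncomm_ring) (by rw [inva, hx, one_mul])
      · exact stepB g ih 1 (Or.inl rfl) c (by rw [hy]; noncomm_ring) (by rw [invb, hy, one_mul])
    | mul_inv_cancel g _ c hc ih =>
      rcases hc with rfl | rfl
      · exact stepA g ih (-1) (Or.inr rfl) c⁻¹ (by rw [inva, hx]; noncomm_ring)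
          (by rw [inv_inv, hx]; noncomm_ring)
      · exact stepB g ih (-1) (Or.inr rfl) c⁻¹ (by rw [invb, hy]; noncomm_ring)
          (by rw [inv_inv, hy]; noncomm_ring)
  obtain ⟨u₀, u₁, u₂, u₃, c₀, -, -, c₃, e, e'⟩ := hsh
  have : ρ g + ρ g⁻¹ = u₀ + u₀ + u₃ * z := by rw [e, e', hz]; noncomm_ring
  rw [this, show ρ a = x + 1 by rw [hx, sub_add_cancel]]
  exact ((c₀.1.add_left c₀.1).add_left (c₃.1.mul_left zx)).add_right (Commute.one_right _)

end Ring

variable {p : ℕ} [Fact p.Prime]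

/-- In a finite linear group generated by two quadratic elements which is not a `p`-group some involution commutes
with a given generator. -/
theorem exists_involution_commute (hp : p ≠ 2) {X A : Type*} [Group X] [Finite X] [AddCommGroup A] [Finite A]
    (hA : ∀ v : A, p • v = 0) (ρ : X →* AddMonoid.End A) (hρ : Function.Injective ρ) {a b : X}
    (hgen : Subgroup.closure ({a, b} : Set X) = ⊤) (ha : (ρ a - 1) * (ρ a - 1) = 0)
    (hb : (ρ b - 1) * (ρ b - 1) = 0) (hnp : ¬ IsPGroup p X) :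
    ∃ z : X, orderOf z = 2 ∧ Commute z a := by
  obtain ⟨φ, -, hta, htb, hnc⟩ := PLocal.exists_hom_of_quadratic_pair hA ρ hgen ha hb (by
    by_contra h
    push Not at h
    exact hnp fun g => let ⟨k, hk⟩ := h g; ⟨k, hρ (hk.trans (map_one ρ).symm)⟩)
  haveI : CharP (AlgebraicClosure (ZMod p)) p :=
    charP_of_injective_algebraMap (algebraMap (ZMod p) _).injective p
  haveI : Finite φ.range := Finite.of_surjective φ.rangeRestrict φ.rangeRestrict_surjective
  obtain ⟨f, hf, hfr⟩ := CfsgLib.PLocal.SL2.exists_sl2_zmod_hom hp φ.range ⟨a, rfl⟩ ⟨b, rfl⟩ hta htb hnc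
  have h2 : 2 ∣ Nat.card X := by
    have h1 : (-1 : SL(2, ZMod p)) ≠ 1 := by
      intro h
      have := congrArg (fun M : SL(2, ZMod p) => M 0 0) h
      simp at this
      have h2 : ((2 : ℕ) : ZMod p) = 0 := by
        push_cast
        linear_combination -this
      rw [ZMod.natCast_eq_zero_iff] at h2
      exact hp ((Nat.prime_dvd_prime_iff_eq Fact.out Nat.prime_two).1 h2)
    have ho : orderOf (-1 : SL(2, ZMod p)) = 2 := orderOf_eq_prime (by simp) h1
    have hd : Nat.card f.range ∣ Nat.card φ.range := Subgroup.card_dvd_of_le hfr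
    rw [← Nat.card_congr (MonoidHom.ofInjective hf).toEquiv] at hd
    have h3 := _root_.orderOf_dvd_natCard (-1 : SL(2, ZMod p))
    rw [ho] at h3
    exact h3.trans (hd.trans (Subgroup.card_range_dvd φ))
  haveI := Fact.mk Nat.prime_two
  obtain ⟨z, hz⟩ := exists_prime_orderOf_dvd_card' 2 h2
  refine ⟨z, hz, hρ ?_⟩
  have hzi : z⁻¹ = z := inv_eq_iff_mul_eq_one.2 (by rw [← pow_two, ← hz, pow_orderOf_eq_one])
  have h := commute_add_inv ρ ha hb (hgen ▸ mem_top z)
  rw [hzi] at h
  rw [map_mul, map_mul]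
  set D := ρ z * ρ a - ρ a * ρ z with hD
  have hD2 : (2 : ℕ) • D = 0 := by
    rw [two_nsmul, hD, sub_add_sub_comm, ← add_mul, ← mul_add, h.eq, sub_self]
  have hDp : p • D = 0 := AddMonoidHom.ext fun v => hA (D v)
  have : D = 0 := by
    obtain ⟨m, hm⟩ := (Fact.out : p.Prime).odd_of_ne_two hp
    rw [hm, add_smul, mul_comm, mul_smul, hD2, nsmul_zero, zero_add, one_smul] at hDp
    exact hDp
  exact sub_eq_zero.1 this

/-- A quadratic element outside the `p`-core of the automizer commutes, modulo the core, with a `2`-element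
outside the core. -/
theorem exists_two_element_commute (hp : p ≠ 2) {M A : Type*} [Group M] [Finite M] [AddCommGroup A] [Finite A]
    (hA : ∀ v : A, p • v = 0) (f : M →* (AddMonoid.End A)ˣ) {q : M}
    (hq : ((f q : AddMonoid.End A) - 1) * ((f q : AddMonoid.End A) - 1) = 0)
    (hout : q ∉ (pCore p f.range).comap f.rangeRestrict) :
    ∃ n : M, n ∉ (pCore p f.range).comap f.rangeRestrict ∧ f (n ^ 2) = 1 ∧
      f (n * q * n⁻¹) = f q := by
  haveI : Finite f.range := Finite.of_surjective f.rangeRestrict f.rangeRestrict_surjective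
  obtain ⟨h, hh⟩ : ∃ h : f.range, ¬ IsPGroup p
      ↥(Subgroup.closure ({f.rangeRestrict q, h * f.rangeRestrict q * h⁻¹} : Set f.range)) := by
    by_contra hall
    push Not at hall
    obtain ⟨N, hN, hNp, hqN⟩ := Small.baerSuzuki_elem (p := p) (f.rangeRestrict q) hall
    exact hout (LocalStructure.le_pCore (hN := hN) hNp hqN)
  set a := f.rangeRestrict q
  set X := Subgroup.closure ({a, h * a * h⁻¹} : Set f.range) with hX
  let a' : X := ⟨a, subset_closure (Or.inl rfl)⟩
  let b' : X := ⟨h * a * h⁻¹, subset_closure (Or.inr rfl)⟩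
  have hgen : Subgroup.closure ({a', b'} : Set X) = ⊤ := by
    apply map_injective X.subtype_injective
    rw [MonoidHom.map_closure, ← MonoidHom.range_eq_map, range_subtype]
    simp [hX, a', b', Set.image_insert_eq, Set.image_singleton]
  let ρ : X →* AddMonoid.End A := (Units.coeHom _).comp (f.range.subtype.comp X.subtype)
  have hρ : Function.Injective ρ := fun x y hxy =>
    Subtype.ext (Subtype.ext (Units.ext hxy))
  have hb : (ρ b' - 1) * (ρ b' - 1) = 0 := by
    show ((((h * a * h⁻¹ : f.range) : (AddMonoid.End A)ˣ) : AddMonoid.End A) - 1) * _ = 0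
    set u : (AddMonoid.End A)ˣ := (h : (AddMonoid.End A)ˣ)
    have e : (((h * a * h⁻¹ : f.range) : (AddMonoid.End A)ˣ) : AddMonoid.End A) - 1 =
        (u : AddMonoid.End A) * ((f q : AddMonoid.End A) - 1) * ((u⁻¹ : (AddMonoid.End A)ˣ) : AddMonoid.End A) := by
      simp [a, u, mul_sub, sub_mul]
    rw [show ρ b' = (((h * a * h⁻¹ : f.range) : (AddMonoid.End A)ˣ) : AddMonoid.End A) from rfl, e]
    generalize ((f q : AddMonoid.End A) - 1) = N at hq ⊢
    calc _ = (u : AddMonoid.End A) * (N * N) * ((u⁻¹ : (AddMonoid.End A)ˣ) : AddMonoid.End A) := by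
          simp only [mul_assoc, Units.inv_mul_cancel_left]
      _ = 0 := by rw [hq, mul_zero, zero_mul]
  obtain ⟨z, hz, hza⟩ := exists_involution_commute hp hA ρ hρ hgen hq hb hh
  obtain ⟨n, hn⟩ := f.rangeRestrict_surjective (z : f.range)
  refine ⟨n, ?_, ?_, ?_⟩
  · intro hmem
    rw [Subgroup.mem_comap, hn] at hmem
    obtain ⟨k, hk⟩ := (LocalStructure.pCore_isPGroup (p := p) (G := f.range)) ⟨_, hmem⟩
    have hk' : (z : f.range) ^ p ^ k = 1 := congrArg Subtype.val hk
    have : orderOf z ∣ p ^ k := by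
      rw [← Subgroup.orderOf_coe]; exact orderOf_dvd_of_pow_eq_one hk'
    rw [hz] at this
    exact hp ((Nat.prime_dvd_prime_iff_eq Nat.prime_two Fact.out).1 (Nat.prime_two.dvd_of_dvd_pow this)).symm
  · have : z ^ 2 = 1 := by rw [← hz, pow_orderOf_eq_one]
    have h1 : f.rangeRestrict (n ^ 2) = 1 := by
      rw [map_pow, hn, ← Subgroup.coe_pow, this, Subgroup.coe_one]
    exact congrArg Subtype.val h1
  · have h1 : f.rangeRestrict (n * q * n⁻¹) = a := by
      rw [map_mul, map_mul, map_inv, hn]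
      have := congrArg Subtype.val hza.eq
      simp only [Subgroup.coe_mul] at this
      rw [show ((a' : X) : f.range) = a from rfl] at this
      rw [this, mul_inv_cancel_right]
    exact congrArg Subtype.val h1

end CfsgLib.BenderOutside
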